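import Cfsg.Agent.H352.KS.Defs
import Cfsg.Agent.ClassicalGeometry.OmegaIndex
import Cfsg.Agent.LieClassical.OrthCenter

/-!
# S4577: the frame of the orthogonal groups in odd characteristic (helper170)

`pd2 : PD2` of `H352/KS/Defs.lean`: the ring of matrices with the adjoint involution of the polar form, the isometry group,
`Ω` (the commutator subgroup) and the projection `Ω → PΩ`.
-/

set_option autoImplicit false

namespace Cfsg.Agent.H170.KS

open Cfsg Matrix QuadraticMap Cfsg.Agent.H352.KS Cfsg.Agent.ClassicalGeometry.Reflection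
open Cfsg.Agent.LieClassical.OrthCenter
open scoped commutatorElement

section Gram

variable {ι : Type} [Fintype ι] [DecidableEq ι] {F : Type*} [Field F] (Q : QuadraticForm F (ι → F))

/-- the Gram matrix of the polar form -/
noncomputable def gram : Matrix ι ι F := LinearMap.toMatrix₂' F (polarBilin Q)

theorem polar_eq (v w : ι → F) : polar Q v w = v ⬝ᵥ gram Q *ᵥ w := by
  have h : polarBilin Q = Matrix.toLinearMap₂' F (gram Q) := by
    unfold gram
    rw [Matrix.toLinearMap₂'_toMatrix']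
  have h1 : polar Q v w = polarBilin Q v w := rfl
  rw [h1, h, Matrix.toLinearMap₂'_apply']

theorem gram_transpose : (gram Q)ᵀ = gram Q := by
  ext i j
  have h1 : ∀ i j, gram Q i j = polar Q (Pi.single i 1) (Pi.single j 1) := by
    intro i j
    rw [polar_eq]
    simp
  rw [Matrix.transpose_apply, h1, h1, polar_comm]

theorem det_gram (hQ : (polarBilin Q).Nondegenerate) : IsUnit (gram Q).det := by
  rw [isUnit_iff_ne_zero]
  intro h0
  obtain ⟨v, hv, h⟩ := Matrix.exists_mulVec_eq_zero_iff.2 h0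
  refine hv (hQ.2 v fun w => ?_)
  have h1 : polar Q w v = polarBilin Q w v := rfl
  rw [← h1, polar_eq, h, dotProduct_zero]

/-- the adjoint involution -/
noncomputable def sig : Matrix ι ι F →+ Matrix ι ι F where
  toFun M := (gram Q)⁻¹ * Mᵀ * gram Q
  map_zero' := by simp
  map_add' M N := by rw [Matrix.transpose_add, Matrix.mul_add, Matrix.add_mul]

theorem sig_apply (M : Matrix ι ι F) : sig Q M = (gram Q)⁻¹ * Mᵀ * gram Q := rfl

theorem sig_smul (c : F) (M : Matrix ι ι F) : sig Q (c • M) = c • sig Q M := by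
  rw [sig_apply, sig_apply, Matrix.transpose_smul, Matrix.mul_smul, Matrix.smul_mul]

theorem sig_one (hQ : (polarBilin Q).Nondegenerate) : sig Q 1 = 1 := by
  rw [sig_apply, Matrix.transpose_one, Matrix.mul_one, Matrix.nonsing_inv_mul _ (det_gram Q hQ)]

theorem sig_mul (hQ : (polarBilin Q).Nondegenerate) (M N : Matrix ι ι F) : sig Q (M * N) = sig Q N * sig Q M := by
  simp only [sig_apply, Matrix.transpose_mul]
  have h := Matrix.mul_nonsing_inv _ (det_gram Q hQ)
  calc (gram Q)⁻¹ * (Nᵀ * Mᵀ) * gram Q = (gram Q)⁻¹ * Nᵀ * 1 * Mᵀ * gram Q := by simp only [Matrix.mul_one, Matrix.mul_assoc]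
    _ = (gram Q)⁻¹ * Nᵀ * gram Q * ((gram Q)⁻¹ * Mᵀ * gram Q) := by rw [← h]; simp only [Matrix.mul_assoc]

/-- the adjunction -/
theorem polar_sig (hQ : (polarBilin Q).Nondegenerate) (M : Matrix ι ι F) (v w : ι → F) :
    polar Q v (sig Q M *ᵥ w) = polar Q (M *ᵥ v) w := by
  rw [polar_eq, polar_eq, sig_apply, Matrix.mulVec_mulVec]
  have h := Matrix.mul_nonsing_inv _ (det_gram Q hQ)
  rw [← Matrix.mul_assoc, ← Matrix.mul_assoc, h, Matrix.one_mul, ← Matrix.mulVec_mulVec]
  rw [Matrix.dotProduct_mulVec, Matrix.vecMul_transpose]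

/-- similitudes: `σ(M) M = c` iff `Q (M v) = c Q v` -/
theorem sim_iff (h2 : (2 : F) ≠ 0) (hQ : (polarBilin Q).Nondegenerate) (M : Matrix ι ι F) (c : F) :
    sig Q M * M = c • 1 ↔ ∀ v, Q (M *ᵥ v) = c * Q v := by
  have key : (∀ v, Q (M *ᵥ v) = c * Q v) ↔ ∀ v w, polar Q (M *ᵥ v) (M *ᵥ w) = c * polar Q v w := by
    constructor
    · intro h v w
      unfold QuadraticMap.polar
      rw [← Matrix.mulVec_add, h, h, h]
      ring
    · intro h v
      have h1 := h v v
      rw [QuadraticMap.polar_self, QuadraticMap.polar_self, two_nsmul, two_nsmul, ← two_mul, ← two_mul] at h1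
      exact mul_left_cancel₀ h2 (by rw [h1]; ring)
  rw [key]
  constructor
  · intro h v w
    have h1 := polar_sig Q hQ M v (M *ᵥ w)
    rw [← h1, Matrix.mulVec_mulVec, h, Matrix.smul_mulVec, Matrix.one_mulVec, polar_smul_right, smul_eq_mul]
  · intro h
    have h3 : ∀ w, (sig Q M * M) *ᵥ w = (c • (1 : Matrix ι ι F)) *ᵥ w := by
      intro w
      rw [← sub_eq_zero]
      refine hQ.2 _ fun v => ?_
      show polar Q v _ = 0
      rw [sub_eq_add_neg, polar_add_right, polar_neg_right, ← Matrix.mulVec_mulVec, polar_sig Q hQ, h,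
        Matrix.smul_mulVec, Matrix.one_mulVec, polar_smul_right, smul_eq_mul]
      ring
    exact Matrix.ext_of_mulVec_single fun i => h3 _

end Gram

section Main

variable {F : Type} [Field F] {ι : Type} [Fintype ι] [DecidableEq ι]

theorem sim_normalizes (Q : QuadraticForm F (ι → F))
    (s : (Matrix ι ι F)ˣ) (hs : ∀ v, Q ((s : Matrix ι ι F) *ᵥ v) = 2 * Q v) (u : (Matrix ι ι F)ˣ)
    (hu : u ∈ Cfsg.isometryGroup F (⇑Q)) : s * u * s⁻¹ ∈ Cfsg.isometryGroup F (⇑Q) := by
  rw [mem_isometryGroup_iff] at hu ⊢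
  intro v
  have e1 : ((s * u * s⁻¹ : (Matrix ι ι F)ˣ) : Matrix ι ι F) *ᵥ v =
      (s : Matrix ι ι F) *ᵥ ((u : Matrix ι ι F) *ᵥ (((s⁻¹ : (Matrix ι ι F)ˣ) : Matrix ι ι F) *ᵥ v)) := by
    rw [Matrix.mulVec_mulVec, Matrix.mulVec_mulVec]
    rfl
  have e2 : (s : Matrix ι ι F) *ᵥ (((s⁻¹ : (Matrix ι ι F)ˣ) : Matrix ι ι F) *ᵥ v) = v := by
    rw [Matrix.mulVec_mulVec, ← Units.val_mul, mul_inv_cancel]
    exact Matrix.one_mulVec v
  rw [e1, hs]
  have h4 := hu (((s⁻¹ : (Matrix ι ι F)ˣ) : Matrix ι ι F) *ᵥ v)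
  rw [h4, ← hs, e2]

theorem pd2 : PD2 := by
  intro F _ _ h2 ι _ _ Q hQ hn hs
  classical
  let I : Subgroup (Matrix ι ι F)ˣ := Cfsg.isometryGroup F (⇑Q)
  let X : Subgroup (Matrix ι ι F)ˣ := (Cfsg.Omega F (⇑Q)).map (Cfsg.isometryGroup F (⇑Q)).subtype
  let e : Cfsg.Omega F (⇑Q) ≃* X :=
    (Cfsg.Omega F (⇑Q)).equivMapOfInjective (Cfsg.isometryGroup F (⇑Q)).subtype Subtype.val_injective
  have he : ∀ g : Cfsg.Omega F (⇑Q), ((e g : X) : (Matrix ι ι F)ˣ) = g.1.1 := fun g => rfl
  let π : X →* Cfsg.POmega F (⇑Q) := (QuotientGroup.mk' _).comp e.symm.toMonoidHom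
  refine ⟨sig Q, I, X, π, ?_, sig_smul Q⟩
  have hmemI : ∀ u : (Matrix ι ι F)ˣ, u ∈ I ↔ sig Q (u : Matrix ι ι F) * u = 1 := by
    intro u
    have h1 := sim_iff Q h2 hQ (u : Matrix ι ι F) 1
    rw [one_smul] at h1
    rw [h1]
    show u ∈ Cfsg.isometryGroup F (⇑Q) ↔ _
    rw [mem_isometryGroup_iff]
    simp only [one_mul]
  exact
    { one := sig_one Q hQ
      anti := sig_mul Q hQ
      mem := hmemI
      le := Subgroup.map_subtype_le _
      comm := by
        intro a ha b hb
        refine ⟨⁅(⟨a, ha⟩ : Cfsg.isometryGroup F (⇑Q)), (⟨b, hb⟩ : Cfsg.isometryGroup F (⇑Q))⁆,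
          Subgroup.commutator_mem_commutator (Subgroup.mem_top _) (Subgroup.mem_top _), ?_⟩
        rfl
      idx := by
        have h1 : X.subgroupOf I = Cfsg.Omega F (⇑Q) := by
          show (Subgroup.map _ _).subgroupOf _ = _
          rw [Subgroup.subgroupOf, Subgroup.comap_map_eq_self_of_injective Subtype.val_injective]
        have h3 : X.relIndex I = (Cfsg.Omega F (⇑Q)).index := by
          show (X.subgroupOf I).index = _
          rw [h1]
        rw [h3, Cfsg.Agent.ClassicalGeometry.OmegaIndex.index_Omega h2 (by omega) Q hQ]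
      sim := by
        intro s hs' g hg
        have h3 : ∀ v, Q ((s : Matrix ι ι F) *ᵥ v) = 2 * Q v := by
          rw [← sim_iff Q h2 hQ]
          rw [hs', two_smul, one_add_one_eq_two]
        have hconj : ∀ u : I, s * u * s⁻¹ ∈ I := fun u => sim_normalizes Q s h3 u u.2
        let φ : I →* I :=
          { toFun := fun u => ⟨s * u * s⁻¹, hconj u⟩
            map_one' := Subtype.ext (by show s * 1 * s⁻¹ = 1; group)
            map_mul' := fun u w => Subtype.ext (by show s * (u * w) * s⁻¹ = (s * u * s⁻¹) * (s * w * s⁻¹); group) }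
        obtain ⟨g', hg', rfl⟩ := hg
        refine ⟨φ g', ?_, rfl⟩
        have h5 : (commutator I).map φ ≤ commutator I := by
          rw [commutator_def, Subgroup.map_commutator]
          exact Subgroup.commutator_mono le_top le_top
        exact h5 ⟨g', hg', rfl⟩
      surj := by
        intro x
        obtain ⟨g, rfl⟩ := QuotientGroup.mk'_surjective _ x
        exact ⟨e g, by show QuotientGroup.mk' _ (e.symm (e g)) = _; rw [e.symm_apply_apply]⟩
      ker := by
        intro z hz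
        have h1 : e.symm z ∈ Subgroup.center (Cfsg.Omega F (⇑Q)) := (QuotientGroup.eq_one_iff _).1 hz
        have h3 := (mem_center_omega_iff hQ hn hs (e.symm z)).1 h1
        have h4 : ((e.symm z).1.1 : (Matrix ι ι F)ˣ) = z := by
          rw [← he, e.apply_symm_apply]
        rw [← h4]
        exact h3 }

end Main

end Cfsg.Agent.H170.KS
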